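import Cfsg.Agent.H98.Ore.Defs

/-!
# Frame extensions (tasks T8a, T8b of S2446)
-/

set_option autoImplicit false
set_option linter.unusedSectionVars false
set_option linter.unusedVariables false
set_option linter.unusedSimpArgs false

namespace Cfsg.Agent.H24.Ore

open Module Polynomial Cfsg.Agent.H951 Matrix Cfsg.Agent.H98.Ore

variable {F V : Type*} [Field F] [Fintype F] [AddCommGroup V] [Module F V] [FiniteDimensional F V] {q : ℕ}
  {σ : F →+* F} {B : V → V → F}

theorem herm' (hB : HS q σ B) (u v : V) : B v u = σ (B u v) := by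
  rw [hB.frm.herm u v, one_mul]

theorem zero_comm (hB : HS q σ B) {u v : V} (h : B u v = 0) : B v u = 0 := hB.frm.eq_zero_comm.1 h

/-- the standard partner of a type I vector -/
theorem partner (hB : HS q σ B) {g : End F V} {w : V} (h1 : B (g w) w ≠ 0) : B w ((B (g w) w)⁻¹ • g w) = 1 := by
  rw [hB.frm.smul_right, herm' hB (g w) w, map_inv₀, inv_mul_cancel₀]
  intro h
  apply h1
  have := congrArg σ h
  rwa [hB.frm.sigma_sq, map_zero] at this

theorem cor_step (hB : HS q σ B) {g : End F V} (hg : Isom B g) {w : V} {U : Submodule F V} {g₁ : End F U}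
    {b : U → F} (h : Step B g w U g₁ b) {κ : Type} [Fintype κ] [DecidableEq κ]
    {P₁ : Matrix κ κ F} (hP : Cor (res B U) g₁ P₁) (s : F) (hs : σ s = -s) :
    ∃ R : Matrix Unit κ F, (b = 0 → R = 0) ∧
      Cor B g (Matrix.fromBlocks (Matrix.of fun _ _ => s * B (g w) w) R 0 P₁) := by
  obtain ⟨w₁, w₁', hF, hPe⟩ := hP
  have hU : ∀ u : U, B u w = 0 ∧ B u (g w) = 0 := fun u => (h.mem u).1 u.2
  have hU' : ∀ u : U, B w u = 0 ∧ B (g w) u = 0 := fun u => ⟨zero_comm hB (hU u).1, zero_comm hB (hU u).2⟩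
  have hgg : B (g w) (g w) = 0 := by rw [hg]; exact h.iso
  set γ := B (g w) w with hγ
  have hp := partner hB h.ne
  rw [← hγ] at hp
  have hs' : σ (-s) = s := by rw [map_neg, hs, neg_neg]
  let w0 : V := γ⁻¹ • g w + (-s) • w
  have hww0 : B w w0 = 1 := by
    rw [hB.frm.add_right, hp, hB.frm.smul_right, h.iso, mul_zero, add_zero]
  have hgw0 : B (g w) w0 = s * γ := by
    rw [hB.frm.add_right, hB.frm.smul_right, hgg, mul_zero, zero_add, hB.frm.smul_right, hs']
  have hU0 : ∀ u : U, B u w0 = 0 := by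
    intro u
    rw [hB.frm.add_right, hB.frm.smul_right, hB.frm.smul_right, (hU u).1, (hU u).2, mul_zero, mul_zero, add_zero]
  have hU0' : ∀ u : U, B w0 u = 0 := fun u => zero_comm hB (hU0 u)
  have hw0w0 : B w0 w0 = 0 := by
    change B (γ⁻¹ • g w + (-s) • w) w0 = 0
    rw [hB.frm.add_left, hB.frm.smul_left, hB.frm.smul_left, hgw0, hww0]
    have hne : γ ≠ 0 := h.ne
    field_simp
    ring
  refine ⟨Matrix.of fun _ j => b (w₁ j) * (s * γ), ?_, Sum.elim (fun _ => w) (fun j => (w₁ j : V)),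
    Sum.elim (fun _ => w0) (fun j => (w₁' j : V)), ⟨?_, ?_, ?_⟩, ?_⟩
  · intro hb
    ext i j
    simp [hb]
  · rintro (i | i) (j | j)
    · exact h.iso
    · exact (hU' _).1
    · exact (hU _).1
    · exact hF.ww i j
  · rintro (i | i) (j | j)
    · simp [hww0]
    · rw [if_neg (by simp)]; exact (hU' _).1
    · rw [if_neg (by simp)]; exact hU0 _
    · have := hF.dual i j
      simp only [Sum.inr.injEq]
      exact this
  · rintro (i | i) (j | j)
    · exact hw0w0
    · exact hU0' _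
    · exact hU0 _
    · exact hF.ww' i j
  · rintro (i | i) (j | j)
    · simp only [Sum.elim_inl, Matrix.fromBlocks_apply₁₁, Matrix.of_apply]
      exact hgw0
    · simp only [Sum.elim_inl, Sum.elim_inr, Matrix.fromBlocks_apply₁₂, Matrix.of_apply]
      rw [h.eq, hB.frm.add_left, hU0, zero_add, hB.frm.smul_left, hgw0]
    · simp only [Sum.elim_inl, Sum.elim_inr, Matrix.fromBlocks_apply₂₁, Matrix.zero_apply]
      exact (hU' _).2
    · simp only [Sum.elim_inr, Matrix.fromBlocks_apply₂₂]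
      rw [h.eq, hB.frm.add_left, hB.frm.smul_left, (hU' _).2, mul_zero, add_zero]
      exact hPe i j

theorem cor_pair (hB : HS q σ B) {g : End F V} (hg : Isom B g) {w : V} {U : Submodule F V} {g₁ : End F U}
    {b : U → F} (h : Step B g w U g₁ b) {w₂ : U} {U₂ : Submodule F U} {g₂ : End F U₂} {b₂ : U₂ → F}
    (h₂ : Step (res B U) g₁ w₂ U₂ g₂ b₂) {κ : Type} [Fintype κ] [DecidableEq κ]
    {P₂ : Matrix κ κ F} (hP : Cor (res (res B U) U₂) g₂ P₂) (s₁ s₂ β : F) (hs₁ : σ s₁ = -s₁) (hs₂ : σ s₂ = -s₂) :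
    ∃ R : Matrix (Fin 2) κ F, Cor B g (Matrix.fromBlocks
      (!![s₁, β; -σ β, s₂] * !![B (g w) w, b w₂ * B (g w) w; 0, B (g₁ w₂ : V) w₂]) R 0 P₂) := by
  obtain ⟨v, v', hF, hPe⟩ := hP
  have hU : ∀ u : U, B u w = 0 ∧ B u (g w) = 0 := fun u => (h.mem u).1 u.2
  have hU' : ∀ u : U, B w u = 0 ∧ B (g w) u = 0 := fun u => ⟨zero_comm hB (hU u).1, zero_comm hB (hU u).2⟩
  have hT : ∀ u : U₂, B ((u : U) : V) (w₂ : V) = 0 ∧ B ((u : U) : V) (g₁ w₂ : V) = 0 := fun u => (h₂.mem u).1 u.2
  have hT' : ∀ u : U₂, B (w₂ : V) ((u : U) : V) = 0 ∧ B (g₁ w₂ : V) ((u : U) : V) = 0 :=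
    fun u => ⟨zero_comm hB (hT u).1, zero_comm hB (hT u).2⟩
  have hgg : B (g w) (g w) = 0 := by rw [hg]; exact h.iso
  have hw₂ : B (w₂ : V) (w₂ : V) = 0 := h₂.iso
  have hgg₂ : B (g₁ w₂ : V) (g₁ w₂ : V) = 0 := by
    have := h.isom w₂ w₂
    change B (g₁ w₂ : V) (g₁ w₂ : V) = B (w₂ : V) (w₂ : V) at this
    rw [this]; exact hw₂
  have hne₂ : B (g₁ w₂ : V) (w₂ : V) ≠ 0 := h₂.ne
  set γ := B (g w) w with hγ
  set γ₂ := B (g₁ w₂ : V) (w₂ : V) with hγ₂
  have hne : γ ≠ 0 := h.ne
  have hp := partner hB h.ne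
  rw [← hγ] at hp
  have hp₂ : B (w₂ : V) (γ₂⁻¹ • (g₁ w₂ : V)) = 1 := by
    rw [hB.frm.smul_right, herm' hB (g₁ w₂ : V) (w₂ : V), map_inv₀, inv_mul_cancel₀]
    intro h0
    apply hne₂
    have := congrArg σ h0
    rwa [hB.frm.sigma_sq, map_zero] at this
  have hs' : σ (-s₁) = s₁ := by rw [map_neg, hs₁, neg_neg]
  have hs₂' : σ (-s₂) = s₂ := by rw [map_neg, hs₂, neg_neg]
  let w0 : V := γ⁻¹ • g w + (-s₁) • w + (σ β) • (w₂ : V)
  let w1 : V := γ₂⁻¹ • (g₁ w₂ : V) + (-β) • w + (-s₂) • (w₂ : V)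
  have a1 : B w w0 = 1 := by
    rw [hB.frm.add_right, hB.frm.add_right, hp, hB.frm.smul_right, h.iso, hB.frm.smul_right, (hU' w₂).1]
    ring
  have a2 : B w w1 = 0 := by
    rw [hB.frm.add_right, hB.frm.add_right, hB.frm.smul_right, (hU' (g₁ w₂)).1, hB.frm.smul_right, h.iso,
      hB.frm.smul_right, (hU' w₂).1]
    ring
  have a3 : B (w₂ : V) w0 = 0 := by
    rw [hB.frm.add_right, hB.frm.add_right, hB.frm.smul_right, (hU w₂).2, hB.frm.smul_right, (hU w₂).1,
      hB.frm.smul_right, hw₂]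
    ring
  have a4 : B (w₂ : V) w1 = 1 := by
    rw [hB.frm.add_right, hB.frm.add_right, hp₂, hB.frm.smul_right, (hU w₂).1, hB.frm.smul_right, hw₂]
    ring
  have b1 : B (g w) w0 = s₁ * γ := by
    rw [hB.frm.add_right, hB.frm.add_right, hB.frm.smul_right, hgg, hB.frm.smul_right, hB.frm.smul_right,
      (hU' w₂).2, hs']
    ring
  have b2 : B (g w) w1 = -σ β * γ := by
    rw [hB.frm.add_right, hB.frm.add_right, hB.frm.smul_right, (hU' (g₁ w₂)).2, hB.frm.smul_right,
      hB.frm.smul_right, (hU' w₂).2, map_neg]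
    ring
  have b3 : B (g₁ w₂ : V) w0 = β * γ₂ := by
    rw [hB.frm.add_right, hB.frm.add_right, hB.frm.smul_right, (hU (g₁ w₂)).2, hB.frm.smul_right, (hU (g₁ w₂)).1,
      hB.frm.smul_right, hB.frm.sigma_sq]
    ring
  have b4 : B (g₁ w₂ : V) w1 = s₂ * γ₂ := by
    rw [hB.frm.add_right, hB.frm.add_right, hB.frm.smul_right, hgg₂, hB.frm.smul_right, (hU (g₁ w₂)).1,
      hB.frm.smul_right, hs₂']
    ring
  have c1 : ∀ u : U₂, B ((u : U) : V) w0 = 0 := by
    intro u
    rw [hB.frm.add_right, hB.frm.add_right, hB.frm.smul_right, hB.frm.smul_right, hB.frm.smul_right,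
      (hU u).1, (hU u).2, (hT u).1]
    ring
  have c2 : ∀ u : U₂, B ((u : U) : V) w1 = 0 := by
    intro u
    rw [hB.frm.add_right, hB.frm.add_right, hB.frm.smul_right, hB.frm.smul_right, hB.frm.smul_right,
      (hU u).1, (hT u).2, (hT u).1]
    ring
  have d1 : B w0 w0 = 0 := by
    change B (γ⁻¹ • g w + (-s₁) • w + (σ β) • (w₂ : V)) w0 = 0
    rw [hB.frm.add_left, hB.frm.add_left, hB.frm.smul_left, hB.frm.smul_left, hB.frm.smul_left, b1, a1, a3]
    field_simp
    ring
  have d2 : B w0 w1 = 0 := by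
    change B (γ⁻¹ • g w + (-s₁) • w + (σ β) • (w₂ : V)) w1 = 0
    rw [hB.frm.add_left, hB.frm.add_left, hB.frm.smul_left, hB.frm.smul_left, hB.frm.smul_left, b2, a2, a4]
    field_simp
    ring
  have d3 : B w1 w1 = 0 := by
    change B (γ₂⁻¹ • (g₁ w₂ : V) + (-β) • w + (-s₂) • (w₂ : V)) w1 = 0
    rw [hB.frm.add_left, hB.frm.add_left, hB.frm.smul_left, hB.frm.smul_left, hB.frm.smul_left, b4, a2, a4]
    field_simp
    ring
  refine ⟨Matrix.of fun i j => B (g ((v j : U) : V)) (![w0, w1] i), Sum.elim ![w, (w₂ : V)] (fun j => ((v j : U) : V)),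
    Sum.elim ![w0, w1] (fun j => ((v' j : U) : V)), ⟨?_, ?_, ?_⟩, ?_⟩
  · rintro (i | i) (j | j)
    · fin_cases i <;> fin_cases j
      · exact h.iso
      · exact (hU' w₂).1
      · exact (hU w₂).1
      · exact hw₂
    · fin_cases i
      · exact (hU' _).1
      · exact (hT' _).1
    · fin_cases j
      · exact (hU _).1
      · exact (hT _).1
    · exact hF.ww i j
  · rintro (i | i) (j | j)
    · fin_cases i <;> fin_cases j
      · simpa using a1
      · simpa using a2
      · simpa using a3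
      · simpa using a4
    · rw [if_neg (by simp)]
      fin_cases i
      · exact (hU' _).1
      · exact (hT' _).1
    · rw [if_neg (by simp)]
      fin_cases j
      · exact c1 _
      · exact c2 _
    · have := hF.dual i j
      simp only [Sum.inr.injEq]
      exact this
  · rintro (i | i) (j | j)
    · fin_cases i <;> fin_cases j
      · exact d1
      · exact d2
      · exact zero_comm hB d2
      · exact d3
    · fin_cases i
      · exact zero_comm hB (c1 _)
      · exact zero_comm hB (c2 _)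
    · fin_cases j
      · exact c1 _
      · exact c2 _
    · exact hF.ww' i j
  · have hg2 : g (w₂ : V) = (g₁ w₂ : V) + b w₂ • g w := h.eq w₂
    rintro (i | i) (j | j)
    · rw [Matrix.fromBlocks_apply₁₁]
      fin_cases i <;> fin_cases j
      · simp [Matrix.mul_apply, Fin.sum_univ_two, b1]
      · simp only [Fin.mk_zero, Fin.isValue, Fin.zero_eta, Fin.mk_one, Sum.elim_inl, Matrix.cons_val_one, Matrix.cons_val_zero,
          Matrix.mul_apply, Fin.sum_univ_two, Matrix.of_apply, Matrix.cons_val_fin_one]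
        rw [hg2, hB.frm.add_left, hB.frm.smul_left, b3, b1]
        ring
      · simp [Matrix.mul_apply, Fin.sum_univ_two, b2]
      · simp only [Fin.mk_zero, Fin.isValue, Fin.zero_eta, Fin.mk_one, Sum.elim_inl, Matrix.cons_val_one, Matrix.cons_val_zero,
          Matrix.mul_apply, Fin.sum_univ_two, Matrix.of_apply, Matrix.cons_val_fin_one]
        rw [hg2, hB.frm.add_left, hB.frm.smul_left, b4, b2]
        ring
    · rw [Matrix.fromBlocks_apply₁₂]
      rfl
    · rw [Matrix.fromBlocks_apply₂₁]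
      fin_cases j
      · exact (hU' _).2
      · change B (g (w₂ : V)) ((v' i : U) : V) = 0
        rw [hg2, hB.frm.add_left, hB.frm.smul_left, (hT' _).2, (hU' _).2]
        ring
    · rw [Matrix.fromBlocks_apply₂₂]
      change B (g ((v j : U) : V)) ((v' i : U) : V) = P₂ i j
      have h5 : (g₁ (v j : U) : V) = ((g₂ (v j) : U) : V) + b₂ (v j) • (g₁ w₂ : V) := by
        rw [h₂.eq (v j)]; rfl
      rw [h.eq, h5, hB.frm.add_left, hB.frm.add_left, hB.frm.smul_left, hB.frm.smul_left, (hT' _).2, (hU' _).2, mul_zero,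
        mul_zero, add_zero, add_zero]
      exact hPe i j

/-- the space of a step is nondegenerate -/
theorem step_nd (hB : HS q σ B) {g : End F V} (hg : Isom B g) {w : V} {U : Submodule F V} {g₁ : End F U}
    {b : U → F} (h : Step B g w U g₁ b) (u : U) (hu : ∀ v : U, B u v = 0) : u = 0 := by
  apply Subtype.ext
  apply hB.nd
  intro v
  have hne : B (g w) w ≠ 0 := h.ne
  have hne' : B w (g w) ≠ 0 := by
    intro h0
    exact hne (zero_comm hB h0)
  have hgg : B (g w) (g w) = 0 := by rw [hg]; exact h.iso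
  have hmem : v - (B v (g w) * (B w (g w))⁻¹) • w - (B v w * (B (g w) w)⁻¹) • g w ∈ U := by
    rw [h.mem]
    constructor
    · rw [hB.frm.sub_left, hB.frm.sub_left, hB.frm.smul_left, hB.frm.smul_left, h.iso, mul_assoc (B v w),
        inv_mul_cancel₀ hne]
      ring
    · rw [hB.frm.sub_left, hB.frm.sub_left, hB.frm.smul_left, hB.frm.smul_left, hgg, mul_assoc (B v (g w)),
        inv_mul_cancel₀ hne']
      ring
  have h1 := hu ⟨_, hmem⟩
  have h2 := (h.mem u).1 u.2
  change B (u : V) (v - (B v (g w) * (B w (g w))⁻¹) • w - (B v w * (B (g w) w)⁻¹) • g w) = 0 at h1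
  rw [hB.frm.sub_right, hB.frm.sub_right, hB.frm.smul_right, hB.frm.smul_right, h2.1, h2.2, mul_zero, mul_zero,
    sub_zero, sub_zero] at h1
  exact h1

/-- the vector orthogonal to a frame in odd dimension -/
theorem exists_left (hB : HS q σ B) (hd : ∀ u, (∀ v, B u v = 0) → u = 0) {κ : Type} [Fintype κ] [DecidableEq κ]
    (hn : finrank F V = 2 * Fintype.card κ + 1) {v v' : κ → V} (hF : Fr B v v') :
    ∃ l : V, B l l ≠ 0 ∧ (∀ i, B (v i) l = 0) ∧ ∀ i, B (v' i) l = 0 := by
  classical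
  let E : V →ₗ[F] (κ → F) × (κ → F) :=
    { toFun := fun u => (fun i => B u (v' i), fun i => B u (v i))
      map_add' := fun x y => by
        refine Prod.ext (funext fun i => ?_) (funext fun i => ?_)
        · exact hB.frm.add_left _ _ _
        · exact hB.frm.add_left _ _ _
      map_smul' := fun a x => by
        refine Prod.ext (funext fun i => ?_) (funext fun i => ?_)
        · exact hB.frm.smul_left _ _ _
        · exact hB.frm.smul_left _ _ _ }
  have hdual' : ∀ i j, B (v' i) (v j) = if i = j then 1 else 0 := by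
    intro i j
    rw [herm' hB (v j) (v' i), hF.dual j i]
    by_cases hij : i = j
    · rw [if_pos hij, if_pos hij.symm, map_one]
    · rw [if_neg hij, if_neg (Ne.symm hij), map_zero]
  let sec : (κ → F) × (κ → F) → V := fun x => ∑ i, x.1 i • v i + ∑ i, x.2 i • v' i
  have hsec : ∀ x, E (sec x) = x := by
    intro x
    refine Prod.ext (funext fun j => ?_) (funext fun j => ?_)
    · change B (∑ i, x.1 i • v i + ∑ i, x.2 i • v' i) (v' j) = x.1 j
      rw [hB.frm.add_left, hB.frm.sum_left, hB.frm.sum_left]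
      simp only [hB.frm.smul_left, hF.dual, hF.ww', mul_zero, Finset.sum_const_zero, add_zero, mul_ite, mul_one,
        Finset.sum_ite_eq', Finset.mem_univ, if_true]
    · change B (∑ i, x.1 i • v i + ∑ i, x.2 i • v' i) (v j) = x.2 j
      rw [hB.frm.add_left, hB.frm.sum_left, hB.frm.sum_left]
      simp only [hB.frm.smul_left, hdual', hF.ww, mul_zero, Finset.sum_const_zero, zero_add, mul_ite, mul_one,
        Finset.sum_ite_eq', Finset.mem_univ, if_true]
  have hsurj : LinearMap.range E = ⊤ := LinearMap.range_eq_top.2 fun x => ⟨sec x, hsec x⟩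
  have h1 := LinearMap.finrank_range_add_finrank_ker E
  rw [hsurj, finrank_top, hn, finrank_prod, finrank_fintype_fun_eq_card] at h1
  have h2 : finrank F (LinearMap.ker E) = 1 := by omega
  obtain ⟨⟨l, hl⟩, hl0, hspan⟩ := finrank_eq_one_iff'.1 h2
  have hEl : ∀ i, B l (v' i) = 0 ∧ B l (v i) = 0 := by
    intro i
    rw [LinearMap.mem_ker] at hl
    exact ⟨congrFun (congrArg Prod.fst hl) i, congrFun (congrArg Prod.snd hl) i⟩
  refine ⟨l, ?_, fun i => zero_comm hB (hEl i).2, fun i => zero_comm hB (hEl i).1⟩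
  intro hll
  apply hl0
  apply Subtype.ext
  apply hd
  intro u
  have h3 : u - sec (E u) ∈ LinearMap.ker E := by
    rw [LinearMap.mem_ker, map_sub, hsec, sub_self]
  obtain ⟨c, hc⟩ := hspan ⟨_, h3⟩
  have h4 : u = sec (E u) + c • l := by
    have := congrArg Subtype.val hc
    change c • l = u - sec (E u) at this
    rw [this]; abel
  change B l u = 0
  rw [h4, hB.frm.add_right, hB.frm.smul_right, hll, mul_zero, add_zero]
  change B l (∑ i, _ • v i + ∑ i, _ • v' i) = 0
  rw [hB.frm.add_right, hB.frm.sum_right, hB.frm.sum_right]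
  simp only [hB.frm.smul_right, (hEl _).1, (hEl _).2, mul_zero, Finset.sum_const_zero, add_zero]

theorem cor_step_odd (hB : HS q σ B) {g : End F V} (hg : Isom B g) {w : V} {U : Submodule F V} {g₁ : End F U}
    {b : U → F} (h : Step B g w U g₁ b) {κ : Type} [Fintype κ] [DecidableEq κ]
    (hn : finrank F U = 2 * Fintype.card κ + 1) {P₁ : Matrix κ κ F} (hP : Cor (res B U) g₁ P₁) (a : F) :
    ∃ R : Matrix Unit κ F, (b = 0 → (∃ c : F, g₁ = c • (1 : End F U)) → R = 0) ∧
      Cor B g (Matrix.fromBlocks (Matrix.of fun _ _ => a) R 0 P₁) := by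
  obtain ⟨w₁, w₁', hF, hPe⟩ := hP
  have hBU : HS q σ (res B U) :=
    { card := hB.card
      sig := hB.sig
      frm :=
        { add_left := fun u v w => hB.frm.add_left _ _ _
          smul_left := fun a u v => hB.frm.smul_left _ _ _
          herm := fun u v => hB.frm.herm _ _
          sigma_sq := hB.frm.sigma_sq
          eps_ne := hB.frm.eps_ne }
      nd := fun u hu => step_nd hB hg h u hu }
  obtain ⟨l, hll, hlv, hlv'⟩ := exists_left hBU hBU.nd hn hF
  have hll : B (l : V) (l : V) ≠ 0 := hll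
  have hU : ∀ u : U, B u w = 0 ∧ B u (g w) = 0 := fun u => (h.mem u).1 u.2
  have hU' : ∀ u : U, B w u = 0 ∧ B (g w) u = 0 := fun u => ⟨zero_comm hB (hU u).1, zero_comm hB (hU u).2⟩
  have hgg : B (g w) (g w) = 0 := by rw [hg]; exact h.iso
  set γ := B (g w) w with hγ
  have hne : γ ≠ 0 := h.ne
  have hp := partner hB h.ne
  rw [← hγ] at hp
  -- the coefficients
  set ζ := σ (a * γ⁻¹) with hζ
  have hσζ : σ ζ = a * γ⁻¹ := hB.frm.sigma_sq _
  have hσl : σ (B (l : V) (l : V)) = B (l : V) (l : V) := (herm' hB (l : V) (l : V)).symm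
  obtain ⟨φ, hφ⟩ := Cfsg.Agent.LieClassical.HermBasic.exists_norm_eq hB.card
    (c := -(ζ + σ ζ) * (B (l : V) (l : V))⁻¹) (by
      rw [← hB.sig, map_mul, map_neg, map_add, map_inv₀, hσl, hB.frm.sigma_sq, ← hζ, add_comm])
  rw [← hB.sig] at hφ
  have hφ' : φ * σ φ * B (l : V) (l : V) = -(ζ + σ ζ) := by
    rw [hφ, mul_assoc, inv_mul_cancel₀ hll, mul_one]
  let w0 : V := γ⁻¹ • g w + ζ • w + φ • (l : V)
  have hww0 : B w w0 = 1 := by
    rw [hB.frm.add_right, hB.frm.add_right, hp, hB.frm.smul_right, h.iso, hB.frm.smul_right, (hU' l).1]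
    ring
  have hgw0 : B (g w) w0 = a := by
    rw [hB.frm.add_right, hB.frm.add_right, hB.frm.smul_right, hgg, hB.frm.smul_right, hB.frm.smul_right,
      (hU' l).2, hσζ, mul_assoc, inv_mul_cancel₀ hne]
    ring
  have hlw0 : B (l : V) w0 = σ φ * B (l : V) (l : V) := by
    rw [hB.frm.add_right, hB.frm.add_right, hB.frm.smul_right, hB.frm.smul_right, hB.frm.smul_right,
      (hU l).1, (hU l).2]
    ring
  have hU0 : ∀ u : U, B u w0 = σ φ * B (u : V) (l : V) := by
    intro u
    rw [hB.frm.add_right, hB.frm.add_right, hB.frm.smul_right, hB.frm.smul_right, hB.frm.smul_right, (hU u).1,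
      (hU u).2]
    ring
  have hv0 : ∀ j, B (w₁ j : V) w0 = 0 := by
    intro j
    rw [hU0, show B (w₁ j : V) (l : V) = 0 from hlv j, mul_zero]
  have hv0' : ∀ j, B (w₁' j : V) w0 = 0 := by
    intro j
    rw [hU0, show B (w₁' j : V) (l : V) = 0 from hlv' j, mul_zero]
  have hw0w0 : B w0 w0 = 0 := by
    change B (γ⁻¹ • g w + ζ • w + φ • (l : V)) w0 = 0
    rw [hB.frm.add_left, hB.frm.add_left, hB.frm.smul_left, hB.frm.smul_left, hB.frm.smul_left, hgw0, hww0, hlw0,
      ← mul_assoc, hφ', hσζ]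
    ring
  refine ⟨Matrix.of fun _ j => B (g (w₁ j)) w0, ?_, Sum.elim (fun _ => w) (fun j => (w₁ j : V)),
    Sum.elim (fun _ => w0) (fun j => (w₁' j : V)), ⟨?_, ?_, ?_⟩, ?_⟩
  · rintro hb ⟨c, hc⟩
    ext i j
    change B (g (w₁ j)) w0 = 0
    have h1 : (g₁ (w₁ j) : V) = c • (w₁ j : V) := by rw [hc]; rfl
    rw [h.eq, hb, Pi.zero_apply, zero_smul, add_zero, h1, hB.frm.smul_left, hv0, mul_zero]
  · rintro (i | i) (j | j)
    · exact h.iso
    · exact (hU' _).1
    · exact (hU _).1
    · exact hF.ww i j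
  · rintro (i | i) (j | j)
    · simp [hww0]
    · rw [if_neg (by simp)]; exact (hU' _).1
    · rw [if_neg (by simp)]; exact hv0 _
    · have := hF.dual i j
      simp only [Sum.inr.injEq]
      exact this
  · rintro (i | i) (j | j)
    · exact hw0w0
    · exact zero_comm hB (hv0' _)
    · exact hv0' _
    · exact hF.ww' i j
  · rintro (i | i) (j | j)
    · simp only [Sum.elim_inl, Matrix.fromBlocks_apply₁₁, Matrix.of_apply]
      exact hgw0
    · rfl
    · simp only [Sum.elim_inl, Sum.elim_inr, Matrix.fromBlocks_apply₂₁, Matrix.zero_apply]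
      exact (hU' _).2
    · simp only [Sum.elim_inr, Matrix.fromBlocks_apply₂₂]
      rw [h.eq, hB.frm.add_left, hB.frm.smul_left, (hU' _).2, mul_zero, add_zero]
      exact hPe i j

end Cfsg.Agent.H24.Ore
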